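import Cfsg.Agent.H796.BR.RankThree
import Cfsg.Agent.H892.Two.Fi23

/-!
# S4857, S4891 : the primes 3, 11, 17, 23 of `Fi₂₃` (helper796)

The rank 3 action on the 31671 = 3⁴·17·23 transpositions, constituents of degrees 782 and 30888 (of 11-defect zero). An
element `x` of order 11 fixes two transpositions, and so does its centralizer (of order 44).
-/

set_option autoImplicit false
set_option maxRecDepth 100000

namespace Cfsg.Agent.H796.BR.FiTT

open Cfsg Subgroup Cfsg.Agent.H493.RatB Cfsg.Agent.H870.IMFi23 Cfsg.Agent.LThreeFi23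
open Cfsg.Agent.Fischer.Fi23Hom
open Cfsg.Spor (Fi23)

universe u

theorem chk : H968.Imc.chkP 3510 28160 (fun _ _ => true) = true := by decide +kernel

theorem chk11 : H968.Imc.chkP 3510 28160 (fun a b => decide (a ≠ 1 ∧ a % 11 ≠ 0 ∧ b % 11 ^ 1 = 0) ||
    decide (b ≠ 1 ∧ b % 11 ≠ 0 ∧ a % 11 ^ 1 = 0)) = true := by decide +kernel

theorem witR_dvd {p : ℕ} (hp : p ∈ [3, 17, 23]) : WitR p Fi23 := by
  obtain ⟨R, hR⟩ := exists_r3
  have hfin : Finite Fi23 := Nat.finite_of_card_ne_zero (by rw [card_G]; norm_num)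
  simp only [List.mem_cons, List.not_mem_nil, or_false] at hp
  rcases hp with rfl | rfl | rfl
  · have : Fact (Nat.Prime 3) := ⟨by norm_num⟩
    exact witR_of_r3 hR (by norm_num) chk
  · have : Fact (Nat.Prime 17) := ⟨by norm_num⟩
    exact witR_of_r3 hR (by norm_num) chk
  · have : Fact (Nat.Prime 23) := ⟨by norm_num⟩
    exact witR_of_r3 hR (by norm_num) chk

section eleven

open Cfsg.Agent.H839 Cfsg.Agent.H839.Fi23

/-- the centralizer of `y11` fixes the two points -/
theorem cent_fix {w : Fi23} (hw : w * elw y11 = elw y11 * w) : rho w 0 = 0 ∧ rho w 18119 = 18119 := by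
  have hC : centralizer (X11 : Set Fi23) = centralizer ({elw y11} : Set Fi23) := by
    show centralizer ((zpowers (elw y11) : Subgroup Fi23) : Set Fi23) = _
    rw [zpowers_eq_closure, centralizer_closure]
  have h1 : centralizer (X11 : Set Fi23) ⊓ centralizer ({el .z} : Set Fi23) = centralizer (X11 : Set Fi23) := by
    apply Subgroup.eq_of_le_of_card_ge inf_le_left
    rw [card_C0, hC, H892.Two.Fi23.card_C11]
  have h2 : w ∈ centralizer (X11 : Set Fi23) := by
    rw [hC]
    exact mem_centralizer_singleton_iff.2 hw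
  rw [← h1] at h2
  have h3 : rho w 0 = 0 := mem_cz.1 h2.2
  refine ⟨h3, ?_⟩
  rcases fix11' hw (Or.inr rfl) with h4 | h4
  · exact absurd ((rho w).injective (h4.trans h3.symm)) (by norm_num)
  · exact h4

/-- the fixed points of `y11` -/
theorem fix_y11 {a : ℕ} (ha : a < 31671) (h : rho (elw y11) a = a) : a = 0 ∨ a = 18119 := by
  have h6 := (pchk_mem fix11 a).1 ⟨ha, by
    rw [pat_cons]
    exact ⟨⟨fun h' => absurd h h', fun h' => absurd h' Bool.false_ne_true⟩, fun c hc => absurd hc (by simp)⟩⟩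
  simpa using h6

theorem mem_H_iff (w : Fi23) : w ∈ SporRec.Fi23Index.H ↔ rho w 0 = 0 := by
  rw [← Fischer.Fi23Simple.H_eq_index]
  exact (stab_facts.1 w).symm

/-- points of the coset space -/
theorem smul_mk_eq_iff (w g : Fi23) :
    w • (QuotientGroup.mk g : Fi23 ⧸ SporRec.Fi23Index.H) = QuotientGroup.mk g ↔ rho w (rho g 0) = rho g 0 := by
  have h1 : w • (QuotientGroup.mk g : Fi23 ⧸ SporRec.Fi23Index.H) = QuotientGroup.mk (w * g) := rfl
  rw [h1, eq_comm, QuotientGroup.eq, mem_H_iff, map_mul, map_mul, map_inv, Equiv.Perm.mul_apply, Equiv.Perm.mul_apply]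
  constructor
  · intro h
    have h2 := congrArg (rho g) h
    exact ((rho g).apply_symm_apply _).symm.trans h2
  · intro h
    rw [h]
    exact (rho g).symm_apply_apply 0

theorem witR_eleven : WitR 11 Fi23 := by
  obtain ⟨R, hR⟩ := exists_r3
  have hfin : Finite Fi23 := Nat.finite_of_card_ne_zero (by rw [card_G]; norm_num)
  have : Fact (Nat.Prime 11) := ⟨by norm_num⟩
  have hx : orderOf (elw y11) = 11 := by rw [← Nat.card_zpowers]; exact card_X11
  refine witR_of_r3_fix (n := 1) hR (by rw [card_G]; norm_num) (by rw [card_G]; norm_num) hx ?_ chk11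
  intro y hy _ a ha
  obtain ⟨g, rfl⟩ := QuotientGroup.mk_surjective a
  rw [smul_mk_eq_iff] at ha ⊢
  obtain ⟨h1, h2⟩ := cent_fix hy
  rcases fix_y11 (act_lt g (by norm_num)) ha with h | h
  · rw [h]; exact h1
  · rw [h]; exact h2

end eleven

/-- **`Fi₂₃`**, `p = 3, 11, 17, 23`. -/
theorem witR_fi23 {S : Type u} [Group S] (h : Spor.IsoFi23 S) {p : ℕ} (hp : p ∈ [3, 11, 17, 23]) : WitR p S := by
  obtain ⟨e⟩ := h
  have : Finite Fi23 := Nat.finite_of_card_ne_zero (by rw [card_G]; norm_num)
  have : Finite S := Finite.of_equiv _ e.symm.toEquiv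
  refine WitR.congr e ?_
  simp only [List.mem_cons, List.not_mem_nil, or_false] at hp
  rcases hp with rfl | rfl | rfl | rfl
  · exact witR_dvd (by simp)
  · exact witR_eleven
  · exact witR_dvd (by simp)
  · exact witR_dvd (by simp)

end Cfsg.Agent.H796.BR.FiTT
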