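import Cfsg.Agent.H40.PV.Ell
import Cfsg.Agent.H116.RatB0.StRow

/-!
# Fixed points of a `p`-subgroup of a Levi subgroup on the cosets of a parabolic subgroup (helper796)

`R` a root group datum of `Y` of characteristic `r`, `P ≤ L_{J₀}` a `p`-subgroup, `p ≠ r`, no conjugate of which under
`P_{J₀}` lies in a smaller standard parabolic subgroup.

* `exists_orbit` : if `g⁻¹ P g ≤ P_J` then `g = c k b` with `c ∈ V_{J₀}` centralizing `P`, `b ∈ P_J` and `k` over `w ∈ W`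
  with `w⁻¹` mapping the simple roots of `J₀` into the simple roots of `J`.
-/

set_option autoImplicit false
set_option linter.unusedSectionVars false

namespace Cfsg.Agent.H796.BR

open Cfsg CoxeterSystem Cfsg.Agent.ChevalleyStructure.CoxeterGeom Cfsg.Agent.Tits.Roots Cfsg.Agent.Tits.Core
  Cfsg.Agent.Tits.Exchange Cfsg.Agent.Nodes.Reps Cfsg.Agent.Nodes.BNOf Cfsg.Agent.Nodes.StabComb
  Cfsg.Agent.Nodes.Bruhat Cfsg.Agent.Nodes.OppDec Cfsg.Agent.Nodes.LeviDec Cfsg.Agent.FixOdd.Cox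
  Cfsg.Agent.H40.PV

/-- a `p`-group acting by conjugation on a coset of a subgroup of order prime to `p` -/
theorem exists_cent {Y : Type*} [Group Y] [Finite Y] {p : ℕ} [Fact p.Prime] {P V : Subgroup Y} (hP : IsPGroup p P)
    (hV : ¬ p ∣ Nat.card V) (hn : ∀ x ∈ P, ∀ v ∈ V, x * v * x⁻¹ ∈ V) {u : Y}
    (hu : ∀ x ∈ P, u⁻¹ * (x * u * x⁻¹) ∈ V) : ∃ v ∈ V, ∀ x ∈ P, x * (u * v) = u * v * x := by
  classical
  let Z := {y : Y // u⁻¹ * y ∈ V}
  let act : MulAction P Z :=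
    { smul := fun x y => ⟨(x : Y) * y.1 * (x : Y)⁻¹, by
        have h1 : u⁻¹ * ((x : Y) * y.1 * (x : Y)⁻¹) = (u⁻¹ * ((x : Y) * u * (x : Y)⁻¹)) * ((x : Y) * (u⁻¹ * y.1) * (x : Y)⁻¹) := by
          group
        rw [h1]
        exact mul_mem (hu x x.2) (hn x x.2 _ y.2)⟩
      one_smul := fun y => Subtype.ext (by
        show ((1 : P) : Y) * y.1 * ((1 : P) : Y)⁻¹ = y.1
        rw [Subgroup.coe_one]; group)
      mul_smul := fun a b y => Subtype.ext (by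
        show ((a * b : P) : Y) * y.1 * ((a * b : P) : Y)⁻¹ = (a : Y) * ((b : Y) * y.1 * (b : Y)⁻¹) * (a : Y)⁻¹
        rw [Subgroup.coe_mul]; group) }
  have hc : Nat.card Z = Nat.card V :=
    Nat.card_congr ⟨fun y => ⟨u⁻¹ * y.1, y.2⟩, fun v => ⟨u * v.1, by rw [inv_mul_cancel_left]; exact v.2⟩,
      fun y => Subtype.ext (mul_inv_cancel_left u y.1), fun v => Subtype.ext (inv_mul_cancel_left u v.1)⟩
  obtain ⟨z, hz⟩ := hP.nonempty_fixed_point_of_prime_not_dvd_card Z (by rw [hc]; exact hV)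
  refine ⟨u⁻¹ * z.1, z.2, fun x hx => ?_⟩
  have h1 : x * z.1 * x⁻¹ = z.1 := congrArg Subtype.val (hz ⟨x, hx⟩)
  rw [mul_inv_cancel_left]
  exact mul_inv_eq_iff_eq_mul.1 h1

variable {I W Y : Type*} [Fintype I] [DecidableEq I] [Group W] [Group Y] {M : CoxeterMatrix I}
  {cs : CoxeterSystem M W} {A : I → I → ℤ} {h : IsCartan M A} {r : ℕ} {T : Subgroup Y} {n : I → Y}
  {X : (I → ℤ) → Subgroup Y} (R : RGD cs h r T n X)

theorem eq_sum (x : I → ℤ) : x = ∑ i, x i • sr i := by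
  funext k
  rw [Finset.sum_apply, Finset.sum_eq_single k]
  · rw [Pi.smul_apply, sr_self, smul_eq_mul, mul_one]
  · intro i _ hi
    rw [Pi.smul_apply, sr_ne hi.symm, smul_zero]
  · intro hk
    exact absurd (Finset.mem_univ k) hk

/-- `w⁻¹` maps the simple roots of `J₀` into those of `J` -/
def Into (cs : CoxeterSystem M W) (h : IsCartan M A) (J₀ J : Set I) (w : W) : Prop :=
  ∀ i ∈ J₀, ∃ j ∈ J, rep cs h w (sr j) = sr i

theorem Into.rootsJ {J₀ J : Set I} {w : W} (hw : Into cs h J₀ J w) {x : I → ℤ} (hx : x ∈ RootsJ cs h J₀) :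
    rep cs h w⁻¹ x ∈ RootsJ cs h J := by
  refine ⟨hx.1.act _, fun k hk => ?_⟩
  rw [eq_sum x, map_sum, Finset.sum_apply]
  refine Finset.sum_eq_zero fun i _ => ?_
  rw [map_smul, Pi.smul_apply, smul_eq_mul]
  by_cases hi : i ∈ J₀
  · obtain ⟨j, hj, e⟩ := hw i hi
    rw [← e, rep_inv_apply]
    have hjk : j ≠ k := fun e => hk (e ▸ hj)
    rw [sr_ne hjk.symm, mul_zero]
  · rw [hx.2 i hi, zero_mul]

include R

theorem Into.LJ_le {J₀ J : Set I} {w : W} (hw : Into cs h J₀ J w) {k : Y} (hk : Rp cs R.nsys w k) :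
    LJ cs h T X J₀ ≤ cj k (LJ cs h T X J) := by
  refine sup_le ?_ (RGD.Sup_le fun x hx => ?_)
  · calc T = cj k T := (cj_T R hk).symm
      _ ≤ cj k (LJ cs h T X J) := cj_mono k T_le_LJ
  · have h1 := R.conj_rp hk (x := rep cs h w⁻¹ x) (hx.1.act _)
    rw [rep_apply_inv] at h1
    rw [← h1]
    exact cj_mono k (X_le_LJ (hw.rootsJ hx))

/-- **The orbits of `C(P)` on the fixed points of `P`.** -/
theorem exists_orbit [Finite W] [Finite Y] [Fact r.Prime] (hG : GG cs h T X = ⊤) {p : ℕ} [hp : Fact p.Prime] (hpr : p ≠ r)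
    {J₀ J : Set I} {P : Subgroup Y} (hP : IsPGroup p P) (hPL : P ≤ LJ cs h T X J₀)
    (hH : ∀ K ⊆ J₀, (∃ a ∈ PJ cs h T X J₀, ∀ x ∈ P, a⁻¹ * x * a ∈ PJ cs h T X K) → K = J₀)
    {g : Y} (hg : ∀ x ∈ P, g⁻¹ * x * g ∈ PJ cs h T X J) :
    ∃ c ∈ VJ cs h X J₀, (∀ x ∈ P, x * c = c * x) ∧ ∃ w k, Rp cs R.nsys w k ∧ Into cs h J₀ J w ∧
      ∃ b ∈ PJ cs h T X J, g = c * k * b := by
  obtain ⟨a, ha, b, hb, w, k, hk, e, hL, hR⟩ := exists_min_pair R hG J₀ J g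
  -- `a⁻¹ P a ≤ P_K`, `K = J₀ ∩ w J`
  have h1 : ∀ x ∈ P, a⁻¹ * x * a ∈ PJ cs h T X (capL cs J₀ J w) := by
    intro x hx
    refine proj R hk hL hR (mul_mem (mul_mem (inv_mem ha) (LJ_le_PJ (hPL hx))) ha) ?_
    have e1 : k⁻¹ * (a⁻¹ * x * a) * k = b * (g⁻¹ * x * g) * b⁻¹ := by rw [e]; group
    rw [e1]
    exact mul_mem (mul_mem hb (hg x hx)) (inv_mem hb)
  have h2 : capL cs J₀ J w = J₀ := hH _ (fun i hi => hi.1) ⟨a, ha, h1⟩
  have hlt : ∀ i ∈ J, cs.length w < cs.length (w * cs.simple i) := (isMinR_iff cs).1 hR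
  have hInto : Into cs h J₀ J w := by
    intro i hi
    rw [← h2] at hi
    obtain ⟨-, j, hj, e3⟩ := hi
    exact ⟨j, hj, rep_sr_of_comm e3 (hlt j hj)⟩
  have h3 := hInto.LJ_le R hk
  -- `a = u l`
  obtain ⟨l, hl, v, hv, ea⟩ := (mem_PJ R).1 ha
  set u := l * v * l⁻¹ with hu
  have huV : u ∈ VJ cs h X J₀ := (Subgroup.mem_normalizer_iff.1 (LJ_le_normalizer_VJ R J₀ hl) v).1 hv
  have ea' : a = u * l := by rw [ea, hu]; group
  have hl' : k⁻¹ * l * k ∈ PJ cs h T X J := LJ_le_PJ (mem_cj.1 (h3 hl))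
  have eg : g = u * k * ((k⁻¹ * l * k) * b) := by rw [e, ea']; group
  set b' := (k⁻¹ * l * k) * b with hb'
  have hb'J : b' ∈ PJ cs h T X J := mul_mem hl' hb
  -- the coset
  let V' : Subgroup Y := VJ cs h X J₀ ⊓ cj k (PJ cs h T X J)
  have hPk : ∀ x ∈ P, x ∈ cj k (PJ cs h T X J) := fun x hx => cj_mono k LJ_le_PJ (h3 (hPL hx))
  have hnorm : ∀ x ∈ P, ∀ y ∈ VJ cs h X J₀, x * y * x⁻¹ ∈ VJ cs h X J₀ := fun x hx y hy =>
    (Subgroup.mem_normalizer_iff.1 (LJ_le_normalizer_VJ R J₀ (hPL hx)) y).1 hy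
  have hcard : ¬ p ∣ Nat.card V' := by
    obtain ⟨Q, hQ⟩ := Cfsg.Agent.KFacts.RgdAutFacts.exists_sylow R hG
    have h4 : IsPGroup r V' := by
      refine Q.isPGroup'.to_le ?_
      rw [hQ]
      exact inf_le_left.trans (VJ_le_U J₀)
    obtain ⟨m, hm⟩ := IsPGroup.iff_card.1 h4
    rw [hm]
    intro h5
    exact hpr ((Nat.prime_dvd_prime_iff_eq hp.out Fact.out).1 (hp.out.dvd_of_dvd_pow h5))
  obtain ⟨v', hv', hcomm⟩ := exists_cent (u := u) hP hcard (fun x hx y hy =>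
    Subgroup.mem_inf.2 ⟨hnorm x hx y hy.1, Subgroup.mul_mem _ (Subgroup.mul_mem _ (hPk x hx) (Subgroup.mem_inf.1 hy).2)
      (Subgroup.inv_mem _ (hPk x hx))⟩) (fun x hx => by
      refine Subgroup.mem_inf.2 ⟨mul_mem (inv_mem huV) (hnorm x hx u huV), ?_⟩
      have h4 : u⁻¹ * x * u ∈ cj k (PJ cs h T X J) := by
        rw [mem_cj]
        have e4 : k⁻¹ * (u⁻¹ * x * u) * k = b' * (g⁻¹ * x * g) * b'⁻¹ := by rw [eg]; group
        rw [e4]
        exact mul_mem (mul_mem hb'J (hg x hx)) (inv_mem hb'J)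
      have e5 : u⁻¹ * (x * u * x⁻¹) = (u⁻¹ * x * u) * x⁻¹ := by group
      rw [e5]
      exact Subgroup.mul_mem _ h4 (Subgroup.inv_mem _ (hPk x hx)))
  refine ⟨u * v', mul_mem huV hv'.1, hcomm, w, k, hk, hInto, k⁻¹ * v'⁻¹ * k * b', mul_mem ?_ hb'J, ?_⟩
  · exact mem_cj.1 (Subgroup.inv_mem _ (Subgroup.mem_inf.1 hv').2)
  · rw [eg]; group

end Cfsg.Agent.H796.BR
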