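import Cfsg.Agent.H796.BR.Sph
import Cfsg.Agent.H107.JFourCol.Main
import Cfsg.Agent.H493.RatB.WitS

/-!
# Four integer valued constituents of the permutation character of J4 of degree 173067389 (helper796)

The collapsed adjacency matrix of the graph of valency 15180 has the simple eigenvalues 825, 517, -55, -253; the
irreducible characters have the degrees 889111, 1776888, 95288172, 4290927.
-/

set_option autoImplicit false

namespace Cfsg.Agent.H796.BR.JFour

open Cfsg
open Cfsg.Agent.Lib Cfsg.Agent.Lib.F2Mat Cfsg.Agent.Lib.F2MatGroup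
open Cfsg.Agent.J4.Rep112 Cfsg.Agent.J4.GroupLemmas
open Cfsg.Agent.J4M Cfsg.Agent.J4M.DBData Cfsg.Agent.J4M.Derive Cfsg.Agent.J4M.Words
open Cfsg.Agent.J4M.Base Cfsg.Agent.J4M.QBase Cfsg.Agent.J4M.MPerm Cfsg.Agent.J4M.MGroup
open Cfsg.Agent.J4M.Gamma Cfsg.Agent.J4M.GammaCheck Cfsg.Agent.J4M.KData Cfsg.Agent.J4M.Decomp
open Cfsg.Agent.J4M.Order Cfsg.Agent.H863.J4Rank7 Cfsg.Agent.H863.J4Rank7Of Cfsg.Agent.H863.DCAbs
open Cfsg.Agent.H107.JFourCol

universe u

/-- uniqueness from a certificate -/
theorem uniq_of_cert {n : ℕ} {B : Fin n → Fin n → ℕ} {t : ℚ} {a : Fin n → ℚ} {C : Fin n → Fin n → ℚ} {o : Fin n}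
    (h : ∀ i j, ∑ k, C i k * ((B k j : ℚ) - if k = j then t else 0) = (if i = j then 1 else 0) - if j = o then a i else 0)
    (a' : Fin n → ℚ) (h' : ∀ i, ∑ j, (B i j : ℚ) * a' j = t * a' i) (i : Fin n) : a' i = a' o * a i := by
  have h1 : ∑ j, (∑ k, C i k * ((B k j : ℚ) - if k = j then t else 0)) * a' j = 0 := by
    simp_rw [Finset.sum_mul]
    rw [Finset.sum_comm]
    refine Finset.sum_eq_zero fun k _ => ?_
    have h2 : ∀ j, C i k * ((B k j : ℚ) - if k = j then t else 0) * a' j =
        C i k * ((B k j : ℚ) * a' j - if k = j then t * a' j else 0) := by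
      intro j
      by_cases hkj : k = j
      · rw [if_pos hkj, if_pos hkj]; ring
      · rw [if_neg hkj, if_neg hkj]; ring
    rw [Finset.sum_congr rfl fun j _ => h2 j, ← Finset.mul_sum, Finset.sum_sub_distrib, h' k,
      Finset.sum_ite_eq Finset.univ k, if_pos (Finset.mem_univ k), sub_self, mul_zero]
  have h2 : ∑ j, (∑ k, C i k * ((B k j : ℚ) - if k = j then t else 0)) * a' j = a' i - a' o * a i := by
    have h3 : ∀ j, (∑ k, C i k * ((B k j : ℚ) - if k = j then t else 0)) * a' j =
        (if i = j then a' j else 0) - if j = o then a' j * a i else 0 := by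
      intro j
      rw [h]
      by_cases h4 : i = j
      · by_cases h5 : j = o
        · rw [if_pos h4, if_pos h4, if_pos h5, if_pos h5]; ring
        · rw [if_pos h4, if_pos h4, if_neg h5, if_neg h5]; ring
      · by_cases h5 : j = o
        · rw [if_neg h4, if_neg h4, if_pos h5, if_pos h5]; ring
        · rw [if_neg h4, if_neg h4, if_neg h5, if_neg h5]; ring
    rw [Finset.sum_congr rfl fun j _ => h3 j, Finset.sum_sub_distrib, Finset.sum_ite_eq Finset.univ i,
      if_pos (Finset.mem_univ i)]
    congr 1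
    simp
  rw [h2] at h1
  exact sub_eq_zero.1 h1

/-- the spherical functions and the certificates of uniqueness -/
def avA : Fin 7 → ℚ := ![1, 5/92, 53/1288, 11/2576, 3/5152, 1/5152, (-1/1792)]
def cvA : Fin 7 → Fin 7 → ℚ := ![![0, 0, 0, 0, 0, 0, 0],
  ![1/15180, 0, 0, 0, 0, 0, 0],
  ![14972189/289005310440, 30287/19038558, (-376531/149588670), (-34598/14958867), 928304/24931445, (-508304/14958867), 0],
  ![3096451/578010620880, 5689/38077116, (-37187/897532020), (-23965/29917734), 58628/24931445, (-23852/14958867), 0],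
  ![2721083/3699267973632, 119653/4873870848, 674027/19147349760, 304879/957367488, (-233903/199451560), 103325/119670936, 0],
  ![2401387/9248169934080, 49033/2436935424, 769/5744204928, 64595/478683744, 79091/99725780, (-52589/59835468), 0],
  ![(-1662959/2339458007040), (-402667/14178533376), (-179127/18567127040), (-435025/2785069056), (-65141/580222720), 131221/348133632, 0]]
def avB : Fin 7 → ℚ := ![1, 47/1380, (-45/1288), (-17/38640), 185/185472, (-17/38640), (-13/161280)]
def cvB : Fin 7 → Fin 7 → ℚ := ![![0, 0, 0, 0, 0, 0, 0],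
  ![1/15180, 0, 0, 0, 0, 0, 0],
  ![(-35743815/406163109352), (-8476425/802693892), 6694733/315344029, 20808180/315344029, (-188105760/315344029), 163982880/315344029, 0],
  ![(-8538307/6092446640280), (-913771/3210775568), 2119647/2522752232, 414075/315344029, (-6231048/315344029), 5663720/315344029, 0],
  ![289537735/116974975493376, 43496335/154117227264, (-19412615/40364035712), (-10170945/10091008928), 15224877/1261376116, (-13620045/1261376116), 0],
  ![(-3553997/3749197932480), (-49519/987930944), 87081/776231456, 86173/194057864, (-87105/48514466), 65907/48514466, 0],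
  ![(-4954289/18494067271680), (-6488789/112085256192), 1884745/29355662336, 122121/7338915584, (-8107927/3669457792), 517185/229341112, 0]]
def avC : Fin 7 → ℚ := ![1, (-1/276), (-3/1288), 1/7728, 0, 1/15456, (-1/21504)]
def cvC : Fin 7 → Fin 7 → ℚ := ![![0, 0, 0, 0, 0, 0, 0],
  ![1/15180, 0, 0, 0, 0, 0, 0],
  ![344601/2806043240, (-1227/277277), 70069/4357210, (-67862/435721), 799632/2178605, (-97168/435721), 0],
  ![(-196333/16836259440), 3407/6654648, (-12791/13071630), 76387/7842978, (-61716/2178605), 75028/3921489, 0],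
  ![3919/3346337280, (-3919/60842496), 134587/557722880, (-203755/83658432), 135171/17428840, (-56809/10457304), 0],
  ![(-32357/20721550080), 347/16380672, (-15331/64352640), 29675/9652896, (-3843/670340), 3551/1206612, 0],
  ![68749/68143595520, (-3711/412991488), 154519/1622466560, (-340727/243369984), 90137/50702080, (-12149/30421248), 0]]
def avD : Fin 7 → ℚ := ![1, (-1/60), 0, 1/480, 0, (-1/1920), 1/3840]
def cvD : Fin 7 → Fin 7 → ℚ := ![![0, 0, 0, 0, 0, 0, 0],
  ![1/15180, 0, 0, 0, 0, 0, 0],
  ![(-315825/213582904612), 315825/844201204, 839906/331650473, (-7534640/331650473), 7058880/331650473, (-466240/331650473), 0],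
  ![(-240856241/25629948553440), 1490297/5065207224, (-812113/7959611352), 1235450/2984854257, (-1734336/331650473), 14020960/2984854257, 0],
  ![410285/5125989710688, (-410285/20260828896), 12255/663300946, 177295/7959611352, 1190457/663300946, (-3483385/1989902838), 0],
  ![252846071/102519794213760, (-4179577/40521657792), (-718127/31838445408), 53587399/47757668112, 102975/331650473, (-3714646/2984854257), 0],
  ![(-191503363/149119700674560), 2534149/39293728768, 21055/1929602752, (-35937413/46310466048), (-82057/120600172), 16753685/11577616512, 0]]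

open Classical in
/-- the character of the eigenvalue `t` -/
theorem exists_chi (a : Fin 7 → ℚ) (t : ℚ) (C : Fin 7 → Fin 7 → ℚ) (d : ℕ)
    (h1 : ∀ i, ∑ j, (B i j : ℚ) * a j = t * a i)
    (h2 : ∀ i j, ∑ k, C i k * ((B k j : ℚ) - if k = j then t else 0) = (if i = j then 1 else 0) - if j = 0 then a i else 0)
    (h3 : a 0 = 1) (h4 : (d : ℚ) * ∑ i, (len i : ℚ) * a i ^ 2 = 173067389) :
    ∃ χ : IrrCharacter R, (∀ g, ∃ z : ℤ, (χ : R → ℂ) g = z) ∧ charDegree (χ : R → ℂ) = d ∧
      ∀ _ : Fintype (MulAction.stabilizer R (rp 0)), ∑ q : MulAction.stabilizer R (rp 0), (χ : R → ℂ) q ≠ 0 := by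
  have := Fintype.ofFinite X
  have := Fintype.ofFinite (MulAction.stabilizer R (rp 0))
  obtain ⟨χ, h5, h6, h7⟩ := exists_graph (G := R) (X := X) (fun x y => decide (Adj x y)) (fun g x y => decide_eq_decide.2
    (adj_smul g x y)) (rp 0) cls rp cls_smul trans_cls B (fun i j => by
      rw [← card_nb i j]
      congr 1
      ext y
      simp only [Finset.mem_filter, Finset.mem_univ, true_and, decide_eq_true_eq]) a t h1 (fun a' ha' i => by
      rw [cls_rp]
      exact uniq_of_cert h2 a' ha' i) (by rw [cls_rp]; exact h3) trans_X len (fun i => by convert card_cls i) d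
      (by rw [card_X]; exact_mod_cast h4)
  refine ⟨χ, h5, h6, fun inst => ?_⟩
  convert h7

theorem exists_889111 : ∃ χ : IrrCharacter R, (∀ g, ∃ z : ℤ, (χ : R → ℂ) g = z) ∧ charDegree (χ : R → ℂ) = 889111 ∧
    ∀ _ : Fintype (MulAction.stabilizer R (rp 0)), ∑ q : MulAction.stabilizer R (rp 0), (χ : R → ℂ) q ≠ 0 :=
  exists_chi avA 825 cvA 889111 (by decide +kernel) (by decide +kernel) rfl (by decide +kernel)

theorem exists_1776888 : ∃ χ : IrrCharacter R, (∀ g, ∃ z : ℤ, (χ : R → ℂ) g = z) ∧ charDegree (χ : R → ℂ) = 1776888 ∧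
    ∀ _ : Fintype (MulAction.stabilizer R (rp 0)), ∑ q : MulAction.stabilizer R (rp 0), (χ : R → ℂ) q ≠ 0 :=
  exists_chi avB 517 cvB 1776888 (by decide +kernel) (by decide +kernel) rfl (by decide +kernel)

theorem exists_95288172 : ∃ χ : IrrCharacter R, (∀ g, ∃ z : ℤ, (χ : R → ℂ) g = z) ∧
    charDegree (χ : R → ℂ) = 95288172 ∧
    ∀ _ : Fintype (MulAction.stabilizer R (rp 0)), ∑ q : MulAction.stabilizer R (rp 0), (χ : R → ℂ) q ≠ 0 :=
  exists_chi avC (-55) cvC 95288172 (by decide +kernel) (by decide +kernel) rfl (by decide +kernel)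

theorem exists_4290927 : ∃ χ : IrrCharacter R, (∀ g, ∃ z : ℤ, (χ : R → ℂ) g = z) ∧
    charDegree (χ : R → ℂ) = 4290927 ∧
    ∀ _ : Fintype (MulAction.stabilizer R (rp 0)), ∑ q : MulAction.stabilizer R (rp 0), (χ : R → ℂ) q ≠ 0 :=
  exists_chi avD (-253) cvD 4290927 (by decide +kernel) (by decide +kernel) rfl (by decide +kernel)

end Cfsg.Agent.H796.BR.JFour
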