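import Cfsg.Agent.H167.AltBldg
import Cfsg.Agent.Characters.Core

/-!
# Rank-selected characters of a group acting strongly transitively on a building (helper796)

`G` acts strongly transitively on the finite building `Δ`; `P K` is the stabilizer of the `K`-residue of the chamber `c`.

* `beta P S = ∑ T ⊆ S, (-1)^|S \ T| 1_{P (Tᶜ)}^G`;
* `isCharacter_beta` : `beta P S` is a character (of the functions on the flags of type `S` with sum zero over the
  classes of flags which agree outside one type `t ∈ S`).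
-/

set_option autoImplicit false
set_option linter.unusedSectionVars false
set_option linter.unusedVariables false

namespace Cfsg.Agent.H796.BR

open Cfsg Cfsg.Agent.Tits.Core Cfsg.Agent.Tits.Core.Bldg Cfsg.Agent.Tits.Exchange Cfsg.Agent.H167.AltTrace
  Cfsg.Agent.H167.AltBldg Cfsg.Agent.H167.SteinbergMod Cfsg.Agent.Characters.Core

variable {I : Type*} [DecidableEq I] [Fintype I] {M : CoxeterMatrix I} {W : Type*} [Group W] {cs : CoxeterSystem M W}
  {C : Type*} [Fintype C] (Δ : Bldg cs C) {G : Type*} [Group G] [MulAction G C]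

/-- the rank-selected characters -/
noncomputable def beta (P : Finset I → Subgroup G) (S : Finset I) (g : G) : ℂ :=
  ∑ T ∈ S.powerset, (-1 : ℂ) ^ (S \ T).card * fixedPointCharacter (P Tᶜ) g

theorem beta_eq (P : Finset I → Subgroup G) (S : Finset I) (g : G) :
    beta P S g = ∑ K ∈ S.powerset, (-1 : ℂ) ^ K.card * fixedPointCharacter (P (Sᶜ ∪ K)) g := by
  unfold beta
  refine Finset.sum_bij' (fun T _ => S \ T) (fun K _ => S \ K) ?_ ?_ ?_ ?_ ?_
  · intro T _
    exact Finset.mem_powerset.2 Finset.sdiff_subset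
  · intro T _
    exact Finset.mem_powerset.2 Finset.sdiff_subset
  · intro T hT
    exact Finset.sdiff_sdiff_eq_self (Finset.mem_powerset.1 hT)
  · intro K hK
    exact Finset.sdiff_sdiff_eq_self (Finset.mem_powerset.1 hK)
  · intro T hT
    have h1 : Sᶜ ∪ (S \ T) = Tᶜ := by
      have hT' := Finset.mem_powerset.1 hT
      ext i
      simp only [Finset.mem_union, Finset.mem_compl, Finset.mem_sdiff]
      constructor
      · rintro (h | h)
        · exact fun h2 => h (hT' h2)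
        · exact h.2
      · intro h
        by_cases hi : i ∈ S
        · exact Or.inr ⟨hi, h⟩
        · exact Or.inl hi
    rw [h1]

section Sys

variable {P : Finset I → Subgroup G} {c : C} (S : Finset I)

/-- the gate of the residue of type `Sᶜ` -/
noncomputable def gte (P : Finset I → Subgroup G) (c : C) (S : Finset I) (x : G ⧸ P Sᶜ) : C :=
  Δ.proj ((Sᶜ : Finset I) : Set I) (x.out • c) c

theorem gte_mem (x : G ⧸ P Sᶜ) : Δ.δ (x.out • c) (gte Δ P c S x) ∈ WJ cs ((Sᶜ : Finset I) : Set I) :=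
  Δ.proj_mem _ _ _

theorem gte_min (x : G ⧸ P Sᶜ) {i : I} (hi : i ∉ S) :
    cs.length (Δ.δ c (gte Δ P c S x)) < cs.length (Δ.δ c (gte Δ P c S x) * cs.simple i) := by
  have h2 := Δ.isMinR_δ_proj ((Sᶜ : Finset I) : Set I) (x.out • c) c
  rw [isMinR_iff] at h2
  exact h2 i (by rw [Finset.mem_coe, Finset.mem_compl]; exact hi)

variable (hiso : ∀ (g : G) (x y : C), Δ.δ (g • x) (g • y) = Δ.δ x y)
  (hP : ∀ K (g : G), g ∈ P K ↔ Δ.δ c (g • c) ∈ WJ cs (K : Set I))

include hiso hP in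
theorem mem_P_iff (K : Finset I) (a b : G) : a⁻¹ * b ∈ P K ↔ Δ.δ (a • c) (b • c) ∈ WJ cs (K : Set I) := by
  rw [hP, mul_smul, ← hiso a, smul_inv_smul]

include hiso hP in
theorem gte_inj : Function.Injective (gte Δ P c S) := by
  intro x y h
  have h1 := gte_mem Δ (c := c) S x
  have h2 := gte_mem Δ (c := c) S y
  rw [h] at h1
  have h3 := Δ.mem_Res_trans h1 (Δ.mem_Res_symm h2)
  have h4 := (mem_P_iff Δ hiso hP Sᶜ x.out y.out).2 h3
  rw [← x.out_eq', ← y.out_eq']
  exact QuotientGroup.eq.2 h4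

include hiso hP in
/-- the gate is determined by the residue -/
theorem gte_eq {x : G ⧸ P Sᶜ} {y : C} (h1 : Δ.δ (x.out • c) y ∈ WJ cs ((Sᶜ : Finset I) : Set I))
    (h2 : IsMinR cs ((Sᶜ : Finset I) : Set I) (Δ.δ c y)) : gte Δ P c S x = y := by
  have h3 := Δ.isProj_of_isMinR (J := ((Sᶜ : Finset I) : Set I)) h1 h2
  have h4 := h3.length_eq (gte_mem Δ (c := c) S x)
  have h5 := Δ.isMinR_δ_proj ((Sᶜ : Finset I) : Set I) (x.out • c) c
  have h6 := (Δ.isProj_of_isMinR (J := ((Sᶜ : Finset I) : Set I)) (gte_mem Δ (c := c) S x) h5).length_eq h1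
  have h7 : Δ.δ y (gte Δ P c S x) = 1 := by
    rw [← cs.length_eq_zero_iff]
    omega
  exact ((Δ.eq_one _ _).1 h7).symm

open Classical in
/-- the system of the flags of type `S` -/
noncomputable def sSys (htr1 : ∀ x y : C, ∃ g : G, g • x = y) : Sys (G ⧸ P Sᶜ) S where
  r K x y := Δ.δ (gte Δ P c S x) (gte Δ P c S y) ∈ WJ cs ((Sᶜ ∪ K : Finset I) : Set I)
  equiv K _ := ⟨fun x => Δ.self_mem_Res _ _, fun h => Δ.mem_Res_symm h, fun h h' => Δ.mem_Res_trans h h'⟩
  mono K L hKL _ x y h := WJ_mono cs (Finset.coe_subset.2 (Finset.union_subset_union_right hKL)) h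
  N x := S.filter fun i => cs.length (Δ.δ c (gte Δ P c S x)) < cs.length (Δ.δ c (gte Δ P c S x) * cs.simple i)
  N_sub x := Finset.filter_subset _ _
  len x := cs.length (Δ.δ c (gte Δ P c S x))
  gate K hK x := by
    have h1 := Δ.proj_mem ((Sᶜ ∪ K : Finset I) : Set I) (gte Δ P c S x) c
    have h2 := Δ.isMinR_δ_proj ((Sᶜ ∪ K : Finset I) : Set I) (gte Δ P c S x) c
    set y0 := Δ.proj ((Sᶜ ∪ K : Finset I) : Set I) (gte Δ P c S x) c with hy0
    obtain ⟨b, hb⟩ := htr1 c y0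
    rw [isMinR_iff] at h2
    have h3 : gte Δ P c S (QuotientGroup.mk b) = y0 := by
      refine gte_eq Δ S hiso hP ?_ ?_
      · rw [← hb, ← mem_P_iff Δ hiso hP, ← QuotientGroup.eq]
        exact (QuotientGroup.mk b : G ⧸ P Sᶜ).out_eq'
      · rw [isMinR_iff]
        intro i hi
        exact h2 i (by
          rw [Finset.mem_coe] at hi ⊢
          exact Finset.mem_union_left _ hi)
    refine ⟨QuotientGroup.mk b, ?_, ?_⟩
    · rw [h3]
      exact h1
    · intro i hi
      simp only [Finset.mem_filter]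
      refine ⟨hK hi, ?_⟩
      rw [h3]
      exact h2 i (by
        rw [Finset.mem_coe]
        exact Finset.mem_union_right _ hi)
  gate_lt K hK y z hy hyz hne := by
    have h1 : IsMinR cs ((Sᶜ ∪ K : Finset I) : Set I) (Δ.δ c (gte Δ P c S y)) := by
      rw [isMinR_iff]
      intro i hi
      rw [Finset.mem_coe, Finset.mem_union] at hi
      rcases hi with hi | hi
      · exact gte_min Δ S y (Finset.mem_compl.1 hi)
      · have := hy hi
        simp only [Finset.mem_filter] at this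
        exact this.2
    have h2 := Δ.isProj_of_isMinR (Δ.self_mem_Res ((Sᶜ ∪ K : Finset I) : Set I) (gte Δ P c S y)) h1
    have h3 := h2.length_eq hyz
    have h4 : cs.length (Δ.δ (gte Δ P c S y) (gte Δ P c S z)) ≠ 0 := by
      intro h
      rw [cs.length_eq_zero_iff, Δ.eq_one] at h
      exact hne (gte_inj Δ S hiso hP h.symm)
    omega

variable (htr1 : ∀ x y : C, ∃ g : G, g • x = y)

theorem mem_N_sSys (x : G ⧸ P Sᶜ) (i : I) : i ∈ (sSys Δ S hiso hP htr1).N x ↔
    i ∈ S ∧ cs.length (Δ.δ c (gte Δ P c S x)) < cs.length (Δ.δ c (gte Δ P c S x) * cs.simple i) := by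
  classical
  unfold sSys
  simp

theorem r_sSys (K : Finset I) (x y : G ⧸ P Sᶜ) : (sSys Δ S hiso hP htr1).r K x y ↔
    Δ.δ (gte Δ P c S x) (gte Δ P c S y) ∈ WJ cs ((Sᶜ ∪ K : Finset I) : Set I) := Iff.rfl

include hiso hP in
theorem gte_mk (a : G) : Δ.δ (a • c) (gte Δ P c S (QuotientGroup.mk a)) ∈ WJ cs ((Sᶜ : Finset I) : Set I) := by
  refine Δ.mem_Res_trans ?_ (gte_mem Δ (c := c) S _)
  show Δ.δ (a • c) ((QuotientGroup.mk a : G ⧸ P Sᶜ).out • c) ∈ WJ cs ((Sᶜ : Finset I) : Set I)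
  rw [← mem_P_iff Δ hiso hP, ← QuotientGroup.eq]
  exact (QuotientGroup.mk a : G ⧸ P Sᶜ).out_eq'.symm

theorem r_mk (K : Finset I) (a b : G) : (sSys Δ S hiso hP htr1).r K (QuotientGroup.mk a) (QuotientGroup.mk b) ↔
    a⁻¹ * b ∈ P (Sᶜ ∪ K) := by
  have hsub : WJ cs ((Sᶜ : Finset I) : Set I) ≤ WJ cs ((Sᶜ ∪ K : Finset I) : Set I) :=
    WJ_mono cs (Finset.coe_subset.2 Finset.subset_union_left)
  have h1 := hsub (gte_mk Δ S hiso hP a)
  have h2 := hsub (gte_mk Δ S hiso hP b)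
  rw [r_sSys, mem_P_iff Δ hiso hP]
  constructor
  · intro h
    exact Δ.mem_Res_trans h1 (Δ.mem_Res_trans h (Δ.mem_Res_symm h2))
  · intro h
    exact Δ.mem_Res_trans (Δ.mem_Res_symm h1) (Δ.mem_Res_trans h h2)

theorem r_smul (K : Finset I) (_ : K ⊆ S) (g : G) (x y : G ⧸ P Sᶜ) (h : (sSys Δ S hiso hP htr1).r K x y) :
    (sSys Δ S hiso hP htr1).r K (g • x) (g • y) := by
  induction x using QuotientGroup.induction_on with
  | _ a =>
  induction y using QuotientGroup.induction_on with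
  | _ b =>
  have h1 := (r_mk Δ S hiso hP htr1 K a b).1 h
  refine (r_mk Δ S hiso hP htr1 K (g * a) (g * b)).2 ?_
  have e : (g * a)⁻¹ * (g * b) = a⁻¹ * b := by group
  rw [e]
  exact h1

/-- the number of fixed classes -/
theorem card_fixedS [Fintype (G ⧸ P Sᶜ)] {K : Finset I} (hK : K ⊆ S) (g : G) :
    Nat.card {x // K ⊆ (sSys Δ S hiso hP htr1).N x ∧ (sSys Δ S hiso hP htr1).r K x (g • x)} =
      Nat.card (MulAction.fixedBy (G ⧸ P (Sᶜ ∪ K)) g) := by
  set Sy := sSys Δ S hiso hP htr1 with hSy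
  have heq := Sy.equiv K hK
  have hr := fun g x y h => r_smul Δ S hiso hP htr1 K hK g x y h
  let F : G ⧸ P (Sᶜ ∪ K) → G ⧸ P Sᶜ := fun q => (Sy.gt hK (QuotientGroup.mk q.out) : G ⧸ P Sᶜ)
  have hF : ∀ q : G ⧸ P (Sᶜ ∪ K), Sy.r K (QuotientGroup.mk q.out) (F q) := fun q => Sy.gt_rel hK _
  have hmem : ∀ a b : G, a⁻¹ * b ∈ P (Sᶜ ∪ K) ↔ Sy.r K (QuotientGroup.mk a) (QuotientGroup.mk b) :=
    fun a b => (r_mk Δ S hiso hP htr1 K a b).symm
  have hfix : ∀ q : G ⧸ P (Sᶜ ∪ K), g • q = q ↔ Sy.r K (F q) (g • F q) := by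
    intro q
    have h1 : g • q = q ↔ q.out⁻¹ * (g * q.out) ∈ P (Sᶜ ∪ K) := by
      conv_lhs => rw [← q.out_eq']
      rw [MulAction.Quotient.smul_mk, eq_comm, QuotientGroup.eq]
      rfl
    rw [h1, hmem]
    have h2 : (QuotientGroup.mk (g * q.out) : G ⧸ P Sᶜ) = g • (QuotientGroup.mk q.out : G ⧸ P Sᶜ) := rfl
    rw [h2]
    constructor
    · intro h
      exact heq.trans (heq.symm (hF q)) (heq.trans h (hr g _ _ (hF q)))
    · intro h
      exact heq.trans (hF q) (heq.trans h (heq.symm (hr g _ _ (hF q))))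
  symm
  refine Nat.card_congr (Equiv.ofBijective
    (fun q : MulAction.fixedBy (G ⧸ P (Sᶜ ∪ K)) g => (⟨F q, (Sy.gt hK _).2, (hfix q).1 q.2⟩ :
      {x // K ⊆ Sy.N x ∧ Sy.r K x (g • x)})) ⟨?_, ?_⟩)
  · intro q q' h
    have h1 : F q = F q' := by
      have h0 := congrArg (Subtype.val : {x // K ⊆ Sy.N x ∧ Sy.r K x (g • x)} → G ⧸ P Sᶜ) h
      exact h0
    apply Subtype.ext
    have h2 : (q : G ⧸ P (Sᶜ ∪ K)).out⁻¹ * (q' : G ⧸ P (Sᶜ ∪ K)).out ∈ P (Sᶜ ∪ K) := by
      rw [hmem]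
      have h3 := hF q
      have h4 := hF q'
      rw [← h1] at h4
      exact heq.trans h3 (heq.symm h4)
    rw [← (q : G ⧸ P (Sᶜ ∪ K)).out_eq', ← (q' : G ⧸ P (Sᶜ ∪ K)).out_eq']
    exact QuotientGroup.eq.2 h2
  · rintro ⟨x, hx, hx2⟩
    obtain ⟨a, rfl⟩ := QuotientGroup.mk_surjective x
    let q : G ⧸ P (Sᶜ ∪ K) := QuotientGroup.mk a
    have h1 : Sy.r K (QuotientGroup.mk q.out) (QuotientGroup.mk a) := by
      rw [← hmem]
      exact QuotientGroup.eq.1 q.out_eq'
    have h2 : F q = QuotientGroup.mk a := by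
      have := (Sy.gt_eq_iff hK (x := QuotientGroup.mk q.out) (y := ⟨QuotientGroup.mk a, hx⟩)).2 h1
      exact congrArg Subtype.val this
    have h3 : g • q = q := by
      rw [hfix, h2]
      exact hx2
    refine ⟨⟨q, h3⟩, Subtype.ext h2⟩

end Sys

section Char

variable {P : Finset I → Subgroup G} {c : C} (S : Finset I) [Finite G]
  (hiso : ∀ (g : G) (x y : C), Δ.δ (g • x) (g • y) = Δ.δ x y)
  (hP : ∀ K (g : G), g ∈ P K ↔ Δ.δ c (g • c) ∈ WJ cs (K : Set I))
  (htr1 : ∀ x y : C, ∃ g : G, g • x = y)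

include hiso hP htr1 in
/-- **The rank-selected characters are characters.** -/
theorem isCharacter_beta : IsCharacter G (beta P S) := by
  classical
  have hfin : Fintype (G ⧸ P Sᶜ) := Fintype.ofFinite _
  have hne : Nonempty (G ⧸ P Sᶜ) := ⟨QuotientGroup.mk 1⟩
  set Sy := sSys Δ S hiso hP htr1 with hSy
  have hr := r_smul Δ S hiso hP htr1
  let ρ : Representation ℂ G Sy.harm :=
    { toFun := fun g => (permRep ℂ G (G ⧸ P Sᶜ) g).restrict (Sy.smul_mem_harm hr g)
      map_one' := by ext; simp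
      map_mul' := fun x y => by ext; simp }
  have h1 := isCharacter_of_rep ρ
  have h2 : ρ.character = beta P S := by
    funext g
    rw [beta_eq]
    have h3 := Sy.trace_harm hr g
    refine Eq.trans h3 (Finset.sum_congr rfl fun K hK => ?_)
    rw [card_fixedS Δ S hiso hP htr1 (Finset.mem_powerset.1 hK) g]
    rfl
  rw [← h2]
  exact h1

end Char

end Cfsg.Agent.H796.BR
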