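import Cfsg.Agent.H796.BR.RankSel
import Cfsg.Agent.H719.BD.Beta
import Cfsg.Agent.FixOdd.Cox

/-!
# Rank-selected characters: inner products (helper796)

* `inner_fix` : `[1_{P K}^G, 1_{P L}^G]` is the number of minimal `(W_K, W_L)`-double coset representatives;
* `inner_beta` : `[beta S, beta S']` is the number of the `w ∈ W` with left descent set `S` and right descent set `S'`.
-/

set_option autoImplicit false
set_option linter.unusedSectionVars false
set_option linter.unusedVariables false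

open scoped ComplexConjugate

namespace Cfsg.Agent.H796.BR

open Cfsg Cfsg.Agent.Tits.Core Cfsg.Agent.Tits.Core.Bldg Cfsg.Agent.Tits.Exchange Cfsg.Agent.FixOdd.Cox
  Cfsg.Agent.Characters.Core

section Cox

variable {I : Type*} {M : CoxeterMatrix I} {W : Type*} [Group W] {cs : CoxeterSystem M W}

/-- minimal double coset representatives exist -/
theorem exists_min_both (K L : Set I) (v : W) : ∃ a ∈ WJ cs K, ∃ b ∈ WJ cs L, ∃ w, IsMinL cs K w ∧ IsMinR cs L w ∧
    v = a * w * b := by
  obtain ⟨a, ha, v1, e1, h1⟩ := exists_isMinL cs K v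
  obtain ⟨w, h2, b, hb, e2⟩ := exists_isMinR cs L v1
  refine ⟨a, ha, b, hb, w, ?_, h2, by rw [e1, e2, mul_assoc]⟩
  rw [isMinL_iff]
  intro k hk
  by_contra hcon
  have h3 := h1 _ (simple_mem_WJ cs hk)
  rw [cs.length_simple] at h3
  have h4 := h2 b hb
  rw [e2] at h3
  have h5 := cs.length_mul_le (cs.simple k * w) b
  rw [← mul_assoc] at h3
  rcases cs.length_simple_mul w k with h6 | h6 <;> omega

end Cox

variable {I : Type*} [DecidableEq I] [Fintype I] {M : CoxeterMatrix I} {W : Type*} [Group W] {cs : CoxeterSystem M W}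
  {C : Type*} [Fintype C] (Δ : Bldg cs C) {G : Type*} [Group G] [MulAction G C]
  {P : Finset I → Subgroup G} {c : C}
  (hiso : ∀ (g : G) (x y : C), Δ.δ (g • x) (g • y) = Δ.δ x y)
  (htr : ∀ x y x' y' : C, Δ.δ x y = Δ.δ x' y' → ∃ g : G, g • x = x' ∧ g • y = y')
  (hP : ∀ K (g : G), g ∈ P K ↔ Δ.δ c (g • c) ∈ WJ cs (K : Set I))

include hiso htr hP in
/-- the number of orbits of `P K` on the cosets of `P L` -/
theorem card_orbits [Finite W] (K L : Finset I) :
    Nat.card (Quotient (MulAction.orbitRel (P K) (G ⧸ P L))) =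
      Nat.card {w : W // IsMinL cs (K : Set I) w ∧ IsMinR cs (L : Set I) w} := by
  have htr1 : ∀ x y : C, ∃ g : G, g • x = y := by
    intro x y
    obtain ⟨g, hg, -⟩ := htr x x y y (by rw [(Δ.eq_one x x).2 rfl, (Δ.eq_one y y).2 rfl])
    exact ⟨g, hg⟩
  have hex : ∀ w : W, ∃ g : G, Δ.δ c (g • c) = w := by
    intro w
    obtain ⟨d, hd⟩ := Δ.exists_δ c w
    obtain ⟨g, hg⟩ := htr1 c d
    exact ⟨g, by rw [hg, hd]⟩
  choose gw hgw using hex
  symm
  refine Nat.card_congr (Equiv.ofBijective (fun w : {w : W // IsMinL cs (K : Set I) w ∧ IsMinR cs (L : Set I) w} =>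
    (Quotient.mk (MulAction.orbitRel (P K) (G ⧸ P L)) (QuotientGroup.mk (gw w.1)))) ⟨?_, ?_⟩)
  · rintro ⟨w, hw1, hw2⟩ ⟨w', hw1', hw2'⟩ h
    have h1 := Quotient.exact h
    obtain ⟨p, hp⟩ := h1
    have h2 : (QuotientGroup.mk ((p : G) * gw w') : G ⧸ P L) = QuotientGroup.mk (gw w) := hp
    rw [QuotientGroup.eq, mem_P_iff Δ hiso hP] at h2
    have h3 : Δ.δ c ((p : G) • c) ∈ WJ cs (K : Set I) := (hP K _).1 p.2
    obtain ⟨t, ht, e1⟩ := Δ.exists_mul_of_mem_left (((p : G) * gw w') • c) h3
    obtain ⟨v, hv, e2⟩ := Δ.exists_mul_of_mem c h2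
    rw [mul_smul] at e1
    rw [hiso, hgw] at e1
    rw [hgw, mul_smul, e1] at e2
    have h4 : t * w' = w * v⁻¹ := by rw [e2]; group
    have h5 := (kilmoyer hw1 hw2 hw1' hw2' ht (inv_mem hv) h4).1
    exact Subtype.ext h5.symm
  · intro q
    induction q using Quotient.inductionOn with
    | _ x =>
    obtain ⟨g, rfl⟩ := QuotientGroup.mk_surjective x
    obtain ⟨a, ha, b, hb, w, hw1, hw2, e⟩ := exists_min_both (cs := cs) (K : Set I) (L : Set I) (Δ.δ c (g • c))
    obtain ⟨d, hd, e1⟩ := Δ.exists_δ_mul_mem_Res (J := (L : Set I)) (x := g • c) c (Δ.self_mem_Res _ _) (inv_mem hb)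
    obtain ⟨c', hc', e2⟩ := Δ.exists_δ_mul_mem_Res (J := (K : Set I)) (x := c) d (Δ.self_mem_Res _ c) ha
    have h1 : Δ.δ c (gw w • c) = Δ.δ c' d := by
      rw [hgw, Δ.symm d c', e2, Δ.symm c d, e1, e]
      group
    obtain ⟨p, hp1, hp2⟩ := htr _ _ _ _ h1
    have hpK : p ∈ P K := by
      rw [hP, hp1]
      exact hc'
    refine ⟨⟨w, hw1, hw2⟩, ?_⟩
    apply Quotient.sound
    refine ⟨⟨p, hpK⟩⁻¹, ?_⟩
    show (QuotientGroup.mk (p⁻¹ * g) : G ⧸ P L) = QuotientGroup.mk (gw w)
    rw [QuotientGroup.eq]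
    have h2 : (p⁻¹ * g)⁻¹ * gw w = g⁻¹ * (p * gw w) := by group
    rw [h2, mem_P_iff Δ hiso hP, mul_smul, hp2]
    exact hd

include hiso htr hP in
/-- **Mackey.** -/
theorem inner_fix [Finite W] [Fintype G] (K L : Finset I) :
    classInner (fixedPointCharacter (P K)) (fixedPointCharacter (P L)) =
      (Nat.card {w : W // IsMinL cs (K : Set I) w ∧ IsMinR cs (L : Set I) w} : ℂ) := by
  classical
  have hPL : IsClassFunction G (fixedPointCharacter (P L)) :=
    isCharacter_isClassFunction (H139.Unipotent.isCharacter_fixedPoint (P L))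
  rw [H719.BD.classInner_fix (P K) hPL, ← card_orbits Δ hiso htr hP K L]
  have hF : Fintype (Quotient (MulAction.orbitRel (P K) (G ⧸ P L))) := Fintype.ofFinite _
  have hF2 : ∀ a : P K, Fintype (MulAction.fixedBy (G ⧸ P L) a) := fun a => Fintype.ofFinite _
  have h1 := MulAction.sum_card_fixedBy_eq_card_orbits_mul_card_group (P K) (G ⧸ P L)
  have h2 : ∀ a : P K, conj (fixedPointCharacter (P L) (a : G)) =
      ((Fintype.card (MulAction.fixedBy (G ⧸ P L) a) : ℕ) : ℂ) := by
    intro a
    unfold fixedPointCharacter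
    rw [Complex.conj_natCast, ← Nat.card_eq_fintype_card]
    rfl
  rw [Finset.sum_congr rfl fun a _ => h2 a, ← Nat.cast_sum, h1, Nat.cast_mul, Nat.card_eq_fintype_card,
    Nat.card_eq_fintype_card]
  have h3 : ((Fintype.card (P K) : ℕ) : ℂ) ≠ 0 := by exact_mod_cast Fintype.card_pos.ne'
  field_simp

theorem sum_powerset_ge {I : Type*} [DecidableEq I] (S D : Finset I) :
    ∑ T ∈ S.powerset, (if D ⊆ T then (-1 : ℂ) ^ (S \ T).card else 0) = if D = S then 1 else 0 := by
  by_cases hD : D ⊆ S
  · have h1 : ∑ T ∈ S.powerset, (if D ⊆ T then (-1 : ℂ) ^ (S \ T).card else 0) =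
        ∑ K ∈ (S \ D).powerset, (-1 : ℂ) ^ K.card := by
      rw [← Finset.sum_filter]
      refine Finset.sum_bij' (fun T _ => S \ T) (fun K _ => S \ K) ?_ ?_ ?_ ?_ ?_
      · intro T hT
        rw [Finset.mem_filter, Finset.mem_powerset] at hT
        rw [Finset.mem_powerset]
        exact Finset.sdiff_subset_sdiff (le_refl S) hT.2
      · intro K hK
        rw [Finset.mem_powerset] at hK
        rw [Finset.mem_filter, Finset.mem_powerset]
        refine ⟨Finset.sdiff_subset, fun i hi => Finset.mem_sdiff.2 ⟨hD hi, fun h => ?_⟩⟩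
        exact (Finset.mem_sdiff.1 (hK h)).2 hi
      · intro T hT
        rw [Finset.mem_filter, Finset.mem_powerset] at hT
        exact Finset.sdiff_sdiff_eq_self hT.1
      · intro K hK
        rw [Finset.mem_powerset] at hK
        exact Finset.sdiff_sdiff_eq_self (hK.trans Finset.sdiff_subset)
      · intro T _
        rfl
    rw [h1]
    have h4 := Finset.sum_powerset_neg_one_pow_card (x := S \ D)
    have h5 := congrArg (Int.cast : ℤ → ℂ) h4
    push_cast at h5
    rw [h5]
    by_cases h6 : D = S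
    · rw [if_pos h6, if_pos (by rw [h6, Finset.sdiff_self])]
    · rw [if_neg h6, if_neg]
      intro h7
      rw [Finset.sdiff_eq_empty_iff_subset] at h7
      exact h6 (Finset.Subset.antisymm hD h7)
  · rw [if_neg (fun h => hD h.le)]
    refine Finset.sum_eq_zero fun T hT => ?_
    rw [if_neg fun h => hD (h.trans (Finset.mem_powerset.1 hT))]

/-- the left and the right descents -/
noncomputable def dL (cs : CoxeterSystem M W) (w : W) : Finset I :=
  Finset.univ.filter fun i => cs.length (cs.simple i * w) < cs.length w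

noncomputable def dR (cs : CoxeterSystem M W) (w : W) : Finset I :=
  Finset.univ.filter fun i => cs.length (w * cs.simple i) < cs.length w

theorem isMinL_compl_iff (T : Finset I) (w : W) : IsMinL cs ((Tᶜ : Finset I) : Set I) w ↔ dL cs w ⊆ T := by
  rw [isMinL_iff]
  constructor
  · intro h i hi
    have h1 := (Finset.mem_filter.1 hi).2
    by_contra h2
    have h3 := h i (by rw [Finset.mem_coe, Finset.mem_compl]; exact h2)
    omega
  · intro h i hi
    rw [Finset.mem_coe, Finset.mem_compl] at hi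
    by_contra h2
    apply hi
    apply h
    refine Finset.mem_filter.2 ⟨Finset.mem_univ _, ?_⟩
    rcases cs.length_simple_mul w i with h3 | h3 <;> omega

theorem isMinR_compl_iff (T : Finset I) (w : W) : IsMinR cs ((Tᶜ : Finset I) : Set I) w ↔ dR cs w ⊆ T := by
  rw [isMinR_iff]
  constructor
  · intro h i hi
    have h1 := (Finset.mem_filter.1 hi).2
    by_contra h2
    have h3 := h i (by rw [Finset.mem_coe, Finset.mem_compl]; exact h2)
    omega
  · intro h i hi
    rw [Finset.mem_coe, Finset.mem_compl] at hi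
    by_contra h2
    apply hi
    apply h
    refine Finset.mem_filter.2 ⟨Finset.mem_univ _, ?_⟩
    rcases cs.length_mul_simple w i with h3 | h3 <;> omega

include hiso htr hP in
/-- **The inner products of the rank-selected characters.** -/
theorem inner_beta [Finite W] [Fintype G] (S S' : Finset I) :
    classInner (beta P S) (beta P S') = (Nat.card {w : W // dL cs w = S ∧ dR cs w = S'} : ℂ) := by
  classical
  have hfW : Fintype W := Fintype.ofFinite W
  have h1 : ∀ T T' : Finset I, classInner (fixedPointCharacter (P Tᶜ)) (fixedPointCharacter (P T'ᶜ)) =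
      ∑ w : W, (if dL cs w ⊆ T then 1 else 0) * (if dR cs w ⊆ T' then 1 else 0) := by
    intro T T'
    rw [inner_fix Δ hiso htr hP]
    simp only [isMinL_compl_iff, isMinR_compl_iff]
    rw [Nat.card_eq_fintype_card, Fintype.card_subtype, Finset.card_filter, Nat.cast_sum]
    refine Finset.sum_congr rfl fun w _ => ?_
    by_cases h1 : dL cs w ⊆ T
    · by_cases h2 : dR cs w ⊆ T'
      · simp [h1, h2]
      · simp [h1, h2]
    · simp [h1]
  have hA : classInner (beta P S) (beta P S') = ∑ T ∈ S.powerset, (-1 : ℂ) ^ (S \ T).card *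
      classInner (fixedPointCharacter (P Tᶜ)) (beta P S') := by
    have e : beta P S = fun g => ∑ T ∈ S.powerset, (-1 : ℂ) ^ (S \ T).card * fixedPointCharacter (P Tᶜ) g := rfl
    rw [e, H719.BD.classInner_sum_mul S.powerset (fun T => (-1 : ℂ) ^ (S \ T).card)
      (fun T => fixedPointCharacter (P Tᶜ))]
  have hB : ∀ T, classInner (fixedPointCharacter (P Tᶜ)) (beta P S') = ∑ T' ∈ S'.powerset, (-1 : ℂ) ^ (S' \ T').card *
      classInner (fixedPointCharacter (P Tᶜ)) (fixedPointCharacter (P T'ᶜ)) := by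
    intro T
    rw [classInner_def]
    have h2 : ∀ g : G, fixedPointCharacter (P Tᶜ) g * conj (beta P S' g) =
        ∑ T' ∈ S'.powerset, (-1 : ℂ) ^ (S' \ T').card *
          (fixedPointCharacter (P Tᶜ) g * conj (fixedPointCharacter (P T'ᶜ) g)) := by
      intro g
      unfold beta
      rw [map_sum, Finset.mul_sum]
      refine Finset.sum_congr rfl fun T' _ => ?_
      rw [map_mul, map_pow, map_neg, map_one]
      ring
    rw [Finset.sum_congr rfl fun g _ => h2 g, Finset.sum_comm, Finset.mul_sum]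
    refine Finset.sum_congr rfl fun T' _ => ?_
    rw [classInner_def, ← Finset.mul_sum]
    ring
  rw [hA]
  have h2 : ∀ T, (-1 : ℂ) ^ (S \ T).card * classInner (fixedPointCharacter (P Tᶜ)) (beta P S') =
      ∑ w : W, (if dL cs w ⊆ T then (-1 : ℂ) ^ (S \ T).card else 0) * (if dR cs w = S' then 1 else 0) := by
    intro T
    rw [hB, Finset.mul_sum]
    have h3 : ∀ T' ∈ S'.powerset, (-1 : ℂ) ^ (S \ T).card * ((-1 : ℂ) ^ (S' \ T').card *
        classInner (fixedPointCharacter (P Tᶜ)) (fixedPointCharacter (P T'ᶜ))) =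
        ∑ w : W, (if dL cs w ⊆ T then (-1 : ℂ) ^ (S \ T).card else 0) *
          (if dR cs w ⊆ T' then (-1 : ℂ) ^ (S' \ T').card else 0) := by
      intro T' _
      rw [h1, Finset.mul_sum, Finset.mul_sum]
      refine Finset.sum_congr rfl fun w _ => ?_
      split_ifs <;> ring
    rw [Finset.sum_congr rfl h3, Finset.sum_comm]
    refine Finset.sum_congr rfl fun w _ => ?_
    rw [← Finset.mul_sum, sum_powerset_ge]
  rw [Finset.sum_congr rfl fun T _ => h2 T, Finset.sum_comm]
  have h3 : ∀ w : W, ∑ T ∈ S.powerset, (if dL cs w ⊆ T then (-1 : ℂ) ^ (S \ T).card else 0) *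
      (if dR cs w = S' then 1 else 0) = if dL cs w = S ∧ dR cs w = S' then 1 else 0 := by
    intro w
    rw [← Finset.sum_mul, sum_powerset_ge]
    by_cases h4 : dL cs w = S
    · by_cases h5 : dR cs w = S'
      · simp [h4, h5]
      · simp [h5]
    · simp [h4]
  rw [Finset.sum_congr rfl fun w _ => h3 w, Nat.card_eq_fintype_card, Fintype.card_subtype, Finset.card_filter,
    Nat.cast_sum]
  refine Finset.sum_congr rfl fun w _ => ?_
  split_ifs <;> simp

end Cfsg.Agent.H796.BR
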